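import Groth.Prelude.Def_CAlgX
import Mathlib.RingTheory.TensorProduct.Maps
import Mathlib.RingTheory.Ideal.Quotient.Operations
import Mathlib.LinearAlgebra.TensorProduct.RightExactness

/-!
# Descent of adic formal smoothness along a split base change
-/

universe u

open TensorProduct

namespace Groth.Agent.CAlgFSDescent

theorem isAdicFormallySmooth_of_split {R S R' : Type u} [CommRing R] [CommRing S] [Algebra R S]
    (𝔫 : Ideal S) [CommRing R'] [Algebra R R'] (ρ : R' →ₗ[R] R) (hρ : ∀ r : R, ρ (algebraMap R R' r) = r)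
    (h : CAlgX.IsAdicFormallySmooth R' (R' ⊗[R] S)
      (𝔫.map (Algebra.TensorProduct.includeRight : S →ₐ[R] R' ⊗[R] S))) :
    CAlgX.IsAdicFormallySmooth R S 𝔫 := by
  intro T _ _ J hJ ψ hψ
  obtain ⟨k, hk⟩ := hψ
  let q : T →ₐ[R] T ⧸ J := Ideal.Quotient.mkₐ R J
  let incS : S →ₐ[R] R' ⊗[R] S := Algebra.TensorProduct.includeRight
  let incT : T →ₐ[R] R' ⊗[R] T := Algebra.TensorProduct.includeRight
  let F : R' ⊗[R] T →ₐ[R'] R' ⊗[R] (T ⧸ J) := Algebra.TensorProduct.map (AlgHom.id R' R') q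
  have hFs : Function.Surjective F :=
    LinearMap.lTensor_surjective R' (g := q.toLinearMap) Ideal.Quotient.mk_surjective
  have hexJ : Function.Exact (J.restrictScalars R).subtype q.toLinearMap :=
    fun y => by simp [q, Ideal.Quotient.eq_zero_iff_mem]
  have hrange : ∀ z ∈ RingHom.ker F, z ∈ J.map incT := by
    intro z hz
    obtain ⟨t, rfl⟩ := (lTensor_exact R' hexJ (fun y => Ideal.Quotient.mk_surjective y) z).1 hz
    clear hz
    induction t using TensorProduct.induction_on with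
    | zero => simp
    | tmul r j =>
      show r ⊗ₜ[R] (j : T) ∈ _
      rw [show r ⊗ₜ[R] (j : T) = (r ⊗ₜ[R] (1 : T)) * ((1 : R') ⊗ₜ[R] (j : T)) by simp]
      exact Ideal.mul_mem_left _ _ (Ideal.mem_map_of_mem incT j.2)
    | add a b ha hb => rw [map_add]; exact add_mem ha hb
  have hsq : RingHom.ker F ^ 2 = ⊥ := by
    rw [eq_bot_iff]
    calc RingHom.ker F ^ 2 ≤ (J.map incT) ^ 2 := Ideal.pow_right_mono (fun z hz => hrange z hz) 2
      _ = ⊥ := by rw [← Ideal.map_pow, hJ, Ideal.map_bot]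
      _ ≤ ⊥ := le_rfl
  let e := Ideal.quotientKerAlgEquivOfSurjective hFs
  let ψT : R' ⊗[R] S →ₐ[R'] R' ⊗[R] (T ⧸ J) := Algebra.TensorProduct.map (AlgHom.id R' R') ψ
  let ψ' : R' ⊗[R] S →ₐ[R'] (R' ⊗[R] T) ⧸ RingHom.ker F := e.symm.toAlgHom.comp ψT
  obtain ⟨χ, hχ⟩ := h (R' ⊗[R] T) (RingHom.ker F) hsq ψ' ⟨k, fun x hx => by
    have h0 : ψT x = 0 := by
      have hle : (𝔫.map incS) ^ k ≤ RingHom.ker ψT := by
        rw [← Ideal.map_pow, Ideal.map_le_iff_le_comap]
        intro s hs
        show ψT ((1 : R') ⊗ₜ[R] s) = 0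
        simp [ψT, hk s hs]
      exact hle hx
    show e.symm (ψT x) = 0
    rw [h0, map_zero]⟩
  have hFχ : ∀ x, F (χ x) = ψT x := fun x => by
    have h1 := congrArg e (DFunLike.congr_fun hχ x)
    have h2 : e (ψ' x) = ψT x := e.apply_symm_apply _
    rw [h2] at h1
    rw [← h1]
    rfl
  let ρT : R' ⊗[R] T →ₗ[R] T := (TensorProduct.lid R T).toLinearMap.comp (LinearMap.rTensor T ρ)
  let ρJ : R' ⊗[R] (T ⧸ J) →ₗ[R] T ⧸ J :=
    (TensorProduct.lid R (T ⧸ J)).toLinearMap.comp (LinearMap.rTensor (T ⧸ J) ρ)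
  have hρ1 : ρ 1 = 1 := by simpa using hρ 1
  have hρlin : ∀ (t : T) (z : R' ⊗[R] T), ρT (incT t * z) = t * ρT z := by
    intro t z
    induction z using TensorProduct.induction_on with
    | zero => simp
    | tmul r u => simp [ρT, incT, Algebra.smul_def, mul_left_comm]
    | add a b ha hb => simp [mul_add, ha, hb]
  have hρinc : ∀ t, ρT (incT t) = t := fun t => by simp [ρT, incT, hρ1]
  have hρnat : ∀ z, q (ρT z) = ρJ (F z) := by
    intro z
    induction z using TensorProduct.induction_on with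
    | zero => simp
    | tmul r u => simp [ρT, ρJ, F, q]
    | add a b ha hb => simp [ha, hb]
  let w : S →ₗ[R] T := ρT.comp ((χ.restrictScalars R).comp incS).toLinearMap
  have hw : ∀ x, w x = ρT (χ (incS x)) := fun _ => rfl
  have hqw : ∀ x, q (w x) = ψ x := fun x => by
    rw [hw, hρnat, hFχ]
    simp [ρJ, ψT, incS, hρ1]
  have hw1 : w 1 = 1 := by
    rw [hw, map_one, map_one, ← map_one incT, hρinc]
  have hwmul : ∀ x y, w (x * y) = w x * w y := by
    intro x y
    let D : S → R' ⊗[R] T := fun x => χ (incS x) - incT (w x)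
    have hD : ∀ x, D x ∈ RingHom.ker F := fun x => by
      rw [RingHom.mem_ker, map_sub, hFχ]
      have : F (incT (w x)) = (1 : R') ⊗ₜ[R] q (w x) := rfl
      rw [this, hqw]
      exact sub_self _
    have hρD : ∀ x, ρT (D x) = 0 := fun x => by simp only [D, map_sub, hρinc, ← hw, sub_self]
    have h0 : D x * D y = 0 := by
      have : D x * D y ∈ RingHom.ker F ^ 2 := by rw [pow_two]; exact Ideal.mul_mem_mul (hD x) (hD y)
      rwa [hsq, Ideal.mem_bot] at this
    have e1 : χ (incS (x * y)) = incT (w x * w y) + (incT (w x) * D y + incT (w y) * D x) := by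
      rw [map_mul, map_mul, map_mul]
      have hx : χ (incS x) = incT (w x) + D x := by simp [D]
      have hy : χ (incS y) = incT (w y) + D y := by simp [D]
      rw [hx, hy]
      linear_combination h0
    rw [hw, e1, map_add, map_add, hρinc, hρlin, hρlin, hρD, hρD, mul_zero, mul_zero, add_zero, add_zero]
  exact ⟨AlgHom.ofLinearMap w hw1 hwmul, AlgHom.ext hqw⟩

end Groth.Agent.CAlgFSDescent
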